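import Mathlib
import Groth.Prelude.Def_W4c4cptpiccptjacBI

/-!
Twists and the quadratic form of a finite multigraph.
-/

universe u

namespace LabGraphLib

open LabGraph

variable {V E : Type u} [Fintype V] [Fintype E] [DecidableEq V] [DecidableEq E]

/-- The difference of a labelling along an edge. -/
def diff (ends : E → V × V) (φ : V → ℤ) (e : E) : ℤ := φ (ends e).1 - φ (ends e).2

/-- The indicator of a vertex set. -/
def ind (Y : Finset V) (v : V) : ℤ := if v ∈ Y then 1 else 0

omit [Fintype E] [DecidableEq E] in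
theorem diff_add (ends : E → V × V) (φ ψ : V → ℤ) (e : E) :
    diff ends (φ + ψ) e = diff ends φ e + diff ends ψ e := by
  simp only [diff, Pi.add_apply]; ring

omit [DecidableEq E] in
theorem sum_twist (ends : E → V × V) (φ : V → ℤ) (Y : Finset V) :
    ∑ v ∈ Y, twist ends φ v = -∑ e, diff ends φ e * diff ends (ind Y) e := by
  simp only [twist]
  rw [Finset.sum_comm, ← Finset.sum_neg_distrib]
  refine Finset.sum_congr rfl fun e _ => ?_
  simp only [Finset.sum_add_distrib, Finset.sum_ite_eq, diff, ind]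
  split_ifs <;> ring

omit [DecidableEq E] in
theorem sum_twist_univ (ends : E → V × V) (φ : V → ℤ) : ∑ v, twist ends φ v = 0 := by
  rw [sum_twist]
  simp [diff, ind]

omit [DecidableEq E] in
theorem cut_eq (ends : E → V × V) (Y : Finset V) :
    (cut ends Y : ℤ) = ∑ e, diff ends (ind Y) e ^ 2 := by
  rw [cut, Finset.card_filter, Nat.cast_sum]
  refine Finset.sum_congr rfl fun e _ => ?_
  simp only [diff, ind]
  by_cases h1 : (ends e).1 ∈ Y <;> by_cases h2 : (ends e).2 ∈ Y <;> simp [h1, h2]

theorem canDeg_univ (ends : E → V × V) (w : V → ℕ) :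
    canDeg ends w Finset.univ = 2 * genus ends w - 2 := by
  have hsum : ∑ v, endCount ends Finset.univ v = 2 * Fintype.card E := by
    simp only [endCount]
    rw [Finset.sum_comm]
    simp only [Finset.sum_add_distrib, Finset.sum_ite_eq, Finset.mem_univ, if_true,
      Finset.sum_const, Finset.card_univ, smul_eq_mul]
    ring
  simp only [canDeg, genus, Finset.sum_add_distrib, Finset.sum_sub_distrib, ← Finset.mul_sum,
    ← Nat.cast_sum, hsum]
  simp
  ring

omit [Fintype V] [Fintype E] [DecidableEq V] [DecidableEq E] in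
theorem exists_crossing (ends : E → V × V) (hc : Connected ends) (p : V → Prop) {a b : V}
    (ha : p a) (hb : ¬ p b) :
    ∃ e, (p (ends e).1 ∧ ¬ p (ends e).2) ∨ (¬ p (ends e).1 ∧ p (ends e).2) := by
  by_contra hno
  push Not at hno
  apply hb
  clear hb
  have h := hc.2 a b
  induction h with
  | refl => exact ha
  | tail _ hst ih =>
    obtain ⟨e, he | he⟩ := hst
    · have := (hno e).1; rw [he] at this; exact this ih
    · have := (hno e).2; rw [he] at this; by_contra h'; exact this h' ih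

omit [Fintype V] [DecidableEq V] [DecidableEq E] in
theorem exists_bound (ends : E → V × V) (hc : Connected ends) (r v : V) :
    ∃ n : ℕ, ∀ φ : V → ℤ, |φ v - φ r| ≤ n * ∑ e, |diff ends φ e| := by
  have h := hc.2 r v
  induction h with
  | refl => exact ⟨0, by simp⟩
  | @tail s t _ hst ih =>
    obtain ⟨n, hn⟩ := ih
    obtain ⟨e, he⟩ := hst
    refine ⟨n + 1, fun φ => ?_⟩
    have h1 : |φ t - φ s| ≤ ∑ e, |diff ends φ e| := by
      refine le_trans (le_of_eq ?_) (Finset.single_le_sum (f := fun e => |diff ends φ e|)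
        (fun e _ => abs_nonneg _) (Finset.mem_univ e))
      rcases he with he | he
      · simp only [diff, he, abs_sub_comm]
      · simp only [diff, he]
    calc |φ t - φ r| ≤ |φ t - φ s| + |φ s - φ r| := abs_sub_le _ _ _
      _ ≤ _ := by push_cast; linarith [hn φ]

theorem exists_twist_small (ends : E → V × V) (hc : Connected ends) (K : ℤ) (hK : 0 < K)
    (b : V → ℤ) (hb : ∑ v, b v = 0) :
    ∃ φ : V → ℤ, ∀ Y : Finset V,
      2 * |K * (∑ v ∈ Y, twist ends φ v) + ∑ v ∈ Y, b v| ≤ (cut ends Y : ℤ) * K := by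
  obtain ⟨r⟩ := hc.1
  choose n hn using fun v => exists_bound ends hc r v
  let G : (V → ℤ) → ℤ := fun φ => K * (∑ e, diff ends φ e ^ 2) - 2 * ∑ v, b v * φ v
  let C : ℤ := 2 * ∑ v, |b v| * n v
  have hC : 0 ≤ C := by positivity
  have hbd : ∀ φ, -((Fintype.card E : ℤ) * C ^ 2) ≤ G φ := by
    intro φ
    have h1 : ∑ v, b v * φ v = ∑ v, b v * (φ v - φ r) := by
      simp only [mul_sub, Finset.sum_sub_distrib, ← Finset.sum_mul, hb, zero_mul, sub_zero]
    have h2 : 2 * ∑ v, b v * (φ v - φ r) ≤ C * ∑ e, |diff ends φ e| := by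
      rw [show C * ∑ e, |diff ends φ e| = 2 * ∑ v, |b v| * (n v * ∑ e, |diff ends φ e|) by
        simp only [C, mul_assoc, Finset.sum_mul]]
      refine mul_le_mul_of_nonneg_left (Finset.sum_le_sum fun v _ => ?_) (by norm_num)
      calc b v * (φ v - φ r) ≤ |b v * (φ v - φ r)| := le_abs_self _
        _ = |b v| * |φ v - φ r| := abs_mul _ _
        _ ≤ _ := mul_le_mul_of_nonneg_left (hn v φ) (abs_nonneg _)
    have h3 : -((Fintype.card E : ℤ) * C ^ 2) ≤
        ∑ e, (K * diff ends φ e ^ 2 - C * |diff ends φ e|) := by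
      rw [show -((Fintype.card E : ℤ) * C ^ 2) = ∑ _e : E, -(C ^ 2) by simp]
      refine Finset.sum_le_sum fun e _ => ?_
      rw [← sq_abs (diff ends φ e)]
      nlinarith [sq_nonneg (|diff ends φ e| - C), abs_nonneg (diff ends φ e),
        mul_nonneg (show 0 ≤ K - 1 by linarith) (sq_nonneg |diff ends φ e|),
        mul_nonneg hC (abs_nonneg (diff ends φ e))]
    rw [Finset.sum_sub_distrib, ← Finset.mul_sum, ← Finset.mul_sum] at h3
    simp only [G, h1]
    linarith
  obtain ⟨-, ⟨φ, rfl⟩, hmin⟩ := Int.exists_least_of_bdd (P := fun z => ∃ φ, G φ = z)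
    ⟨_, by rintro z ⟨φ, rfl⟩; exact hbd φ⟩ ⟨G 0, 0, rfl⟩
  refine ⟨φ, fun Y => ?_⟩
  have hvar : ∀ s : ℤ, 0 ≤ s ^ 2 * (cut ends Y : ℤ) * K
      - 2 * s * (K * (∑ v ∈ Y, twist ends φ v) + ∑ v ∈ Y, b v) := by
    intro s
    have hψ := hmin (G (φ + s • ind Y)) ⟨_, rfl⟩
    have hd : ∀ e, diff ends (φ + s • ind Y) e = diff ends φ e + s * diff ends (ind Y) e := fun e => by
      simp only [diff, Pi.add_apply, Pi.smul_apply, smul_eq_mul]; ring
    have hb' : ∑ v, b v * (φ + s • ind Y) v = ∑ v, b v * φ v + s * ∑ v ∈ Y, b v := by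
      simp only [Pi.add_apply, Pi.smul_apply, smul_eq_mul, mul_add, Finset.sum_add_distrib]
      congr 1
      rw [Finset.mul_sum]
      simp [ind, mul_comm]
    have he : ∑ e, diff ends (φ + s • ind Y) e ^ 2 = ∑ e, diff ends φ e ^ 2
        + 2 * s * (∑ e, diff ends φ e * diff ends (ind Y) e) + s ^ 2 * (cut ends Y : ℤ) := by
      rw [cut_eq, Finset.mul_sum, Finset.mul_sum, ← Finset.sum_add_distrib, ← Finset.sum_add_distrib]
      exact Finset.sum_congr rfl fun e _ => by rw [hd]; ring
    have ht := sum_twist ends φ Y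
    simp only [G, hb', he] at hψ
    rw [ht]
    linarith
  have h1 := hvar 1
  have h2 := hvar (-1)
  rw [show 2 * |K * (∑ v ∈ Y, twist ends φ v) + ∑ v ∈ Y, b v|
      = |2 * (K * (∑ v ∈ Y, twist ends φ v) + ∑ v ∈ Y, b v)| by simp [abs_mul]]
  exact abs_le.mpr ⟨by linarith, by linarith⟩

omit [DecidableEq E] in
theorem twist_sub_const (ends : E → V × V) (φ : V → ℤ) (c : ℤ) :
    twist ends (fun v => φ v - c) = twist ends φ := by
  funext v
  exact Finset.sum_congr rfl fun e _ => by simp

theorem abs_diff_le_one (ends : E → V × V) (φ : V → ℤ)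
    (h : ∀ Y : Finset V, |∑ v ∈ Y, twist ends φ v| ≤ (cut ends Y : ℤ)) (e : E) :
    |diff ends φ e| ≤ 1 := by
  let Y : Finset V := Finset.univ.filter fun v => max (φ (ends e).1) (φ (ends e).2) ≤ φ v
  have hY := h Y
  rw [sum_twist, abs_neg, cut_eq] at hY
  have hge : ∀ e', diff ends (ind Y) e' ^ 2 ≤ diff ends φ e' * diff ends (ind Y) e' := by
    intro e'
    simp only [diff, ind, Y, Finset.mem_filter, Finset.mem_univ, true_and]
    split_ifs <;> simp <;> linarith
  have heq : ∑ e', (diff ends φ e' * diff ends (ind Y) e' - diff ends (ind Y) e' ^ 2) ≤ 0 := by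
    rw [Finset.sum_sub_distrib]; linarith [le_abs_self (∑ e', diff ends φ e' * diff ends (ind Y) e')]
  have h0 := (Finset.sum_eq_zero_iff_of_nonneg (fun e' _ => sub_nonneg.mpr (hge e'))).mp
    (le_antisymm heq (Finset.sum_nonneg fun e' _ => sub_nonneg.mpr (hge e'))) e (Finset.mem_univ e)
  rcases le_total (φ (ends e).1) (φ (ends e).2) with hle | hle <;>
    simp only [diff, ind, Y, Finset.mem_filter, Finset.mem_univ, true_and, hle, max_eq_left,
      max_eq_right] at h0 ⊢ <;> split_ifs at h0 <;> rw [abs_le] <;> constructor <;> nlinarith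

end LabGraphLib
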